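import Mathlib
import Cfsg.Agent.Lib.Helper8.TPFront

/-!
# Project TP (S4033; architect helper4, front by helper8), piece F1 (helper51)

Commuting `p`-regular elements `x`, `y` of coprime orders, `x` noncentral: `C(x) ≤ C(y)`.
-/

set_option autoImplicit false

namespace Cfsg.Agent.Lib.Helper51.TP

open Cfsg.Agent.Lib.Helper8.TP

universe u

theorem f1_cent_pow {G : Type u} [Group G] (z : G) (k : ℕ) :
    Subgroup.centralizer ({z} : Set G) ≤ Subgroup.centralizer ({z ^ k} : Set G) := by
  intro g hg
  rw [Subgroup.mem_centralizer_iff] at hg ⊢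
  intro h hh
  rw [Set.mem_singleton_iff] at hh
  subst hh
  have h1 : Commute z g := hg z (Set.mem_singleton z)
  exact (h1.pow_left k).eq

theorem f1_index_one_iff {G : Type u} [Group G] (x : G) :
    (Subgroup.centralizer ({x} : Set G)).index = 1 ↔ x ∈ Subgroup.center G := by
  rw [Subgroup.index_eq_one, Subgroup.centralizer_eq_top_iff_subset, Set.singleton_subset_iff]
  rfl

theorem f1 : F1Stmt.{u} := by
  intro G _ _ p m hm x y hx hy hxy hcop hxc
  have hoz : orderOf (x * y) = orderOf x * orderOf y :=
    hxy.orderOf_mul_eq_mul_orderOf_of_coprime hcop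
  have hzp : (orderOf (x * y)).Coprime p := by
    rw [hoz]
    exact Nat.Coprime.mul_left hx hy
  have hzy : (x * y) ^ orderOf y = x ^ orderOf y := by
    rw [hxy.mul_pow, pow_orderOf_eq_one, mul_one]
  have hzx : (x * y) ^ orderOf x = y ^ orderOf x := by
    rw [hxy.mul_pow, pow_orderOf_eq_one, one_mul]
  obtain ⟨a, ha⟩ := exists_pow_eq_self_of_coprime (x := x) hcop.symm
  obtain ⟨b, hb⟩ := exists_pow_eq_self_of_coprime (x := y) hcop
  have hxz : x = (x * y) ^ (orderOf y * a) := by rw [pow_mul, hzy, ha]
  have hyz : y = (x * y) ^ (orderOf x * b) := by rw [pow_mul, hzx, hb]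
  have hle_x : Subgroup.centralizer ({x * y} : Set G) ≤ Subgroup.centralizer ({x} : Set G) := by
    have h := f1_cent_pow (x * y) (orderOf y * a)
    rwa [← hxz] at h
  have hle_y : Subgroup.centralizer ({x * y} : Set G) ≤ Subgroup.centralizer ({y} : Set G) := by
    have h := f1_cent_pow (x * y) (orderOf x * b)
    rwa [← hyz] at h
  have hzc : x * y ∉ Subgroup.center G := by
    intro h
    apply hxc
    rw [hxz]
    exact Subgroup.pow_mem _ h _
  have hix : (Subgroup.centralizer ({x} : Set G)).index = m := by
    rcases hm x hx with h | h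
    · exact absurd ((f1_index_one_iff x).mp h) hxc
    · exact h
  have hiz : (Subgroup.centralizer ({x * y} : Set G)).index = m := by
    rcases hm (x * y) hzp with h | h
    · exact absurd ((f1_index_one_iff (x * y)).mp h) hzc
    · exact h
  have hm0 : m ≠ 0 := by
    rw [← hix]
    exact Subgroup.index_ne_zero_of_finite
  have hrel := Subgroup.relIndex_mul_index hle_x
  rw [hix, hiz] at hrel
  have hrel1 : (Subgroup.centralizer ({x * y} : Set G)).relIndex
      (Subgroup.centralizer ({x} : Set G)) = 1 := by
    have h : (Subgroup.centralizer ({x * y} : Set G)).relIndex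
        (Subgroup.centralizer ({x} : Set G)) * m = 1 * m := by rw [hrel, one_mul]
    exact Nat.eq_of_mul_eq_mul_right (Nat.pos_of_ne_zero hm0) h
  exact (Subgroup.relIndex_eq_one.mp hrel1).trans hle_y

end Cfsg.Agent.Lib.Helper51.TP
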