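import Cfsg.Agent.Lib.Helper51.HypPairs
import Cfsg.Agent.Lib.Helper51.GLAb

set_option autoImplicit false
set_option linter.unusedSectionVars false

namespace Cfsg.Agent.Lib.Helper51

open Cfsg

section scale

variable {ι : Type} [Fintype ι] [DecidableEq ι] {F : Type*} [Field F]
variable {Q : QuadraticForm F (ι → F)}

theorem IsHypPair.Q_scale {a b : ι} (h : IsHypPair Q a b) (u : F) :
    Q (Pi.single a 1 - u • Pi.single b 1) = -u := by
  obtain ⟨hne, ha, hb, pa, pb⟩ := h
  rw [Q_sub_smul, ha, hb, pb]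
  simp

theorem IsHypPair.Q_scale_ne {a b : ι} (h : IsHypPair Q a b) (u : F) (hu : u ≠ 0) :
    Q (Pi.single a 1 - u • Pi.single b 1) ≠ 0 := by
  rw [h.Q_scale]; exact neg_ne_zero.mpr hu

theorem IsHypPair.polar_scale {a b : ι} (h : IsHypPair Q a b) (u : F) (x : ι → F) :
    QuadraticMap.polar ⇑Q (Pi.single a 1 - u • Pi.single b 1) x = x b - u * x a := by
  obtain ⟨hne, ha, hb, pa, pb⟩ := h
  rw [QuadraticMap.polar_sub_left, polar_smul_left', pa, pb]

/-- The product of two reflections of a hyperbolic pair scaling the two coordinates. -/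
theorem IsHypPair.reflection_mul_scale {a b : ι} (h : IsHypPair Q a b) (u : F) (hu : u ≠ 0) :
    reflectionMatrix ⇑Q (Pi.single a 1 - Pi.single b 1)
        * reflectionMatrix ⇑Q (Pi.single a 1 - u • Pi.single b 1)
      = Matrix.diagonal (fun k => if k = a then u else if k = b then u⁻¹ else 1) := by
  have hne : a ≠ b := h.1
  apply matrix_ext_mulVec
  intro x
  rw [← Matrix.mulVec_mulVec, reflectionMatrix_mulVec Q _ x, h.polar_scale, h.Q_scale,
    reflectionMatrix_mulVec, h.polar_minus, h.Q_minus]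
  funext k
  rw [Matrix.mulVec_diagonal]
  by_cases hka : k = a
  · subst hka
    simp [hne]
    field_simp
    ring
  · by_cases hkb : k = b
    · subst hkb
      simp [hne, Ne.symm hne]
      field_simp
      ring
    · simp [Pi.single_apply, hka, hkb]

end scale

section blockL

variable {m : ℕ} {F : Type*} [Field F]

/-- `A ↦ diag(A, A⁻ᵀ)` on matrices. -/
noncomputable def LMat :
    Matrix (Fin m) (Fin m) F →* Matrix (Fin m ⊕ Fin m) (Fin m ⊕ Fin m) F where
  toFun A := Matrix.fromBlocks A 0 0 (A⁻¹).transpose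
  map_one' := by simp [Matrix.fromBlocks_one]
  map_mul' A B := by
    rw [Matrix.fromBlocks_multiply]
    simp [Matrix.mul_inv_rev, Matrix.transpose_mul]

/-- `A ↦ diag(A, A⁻ᵀ)` on `GL`. -/
noncomputable def LGL : GL (Fin m) F →* GL (Fin m ⊕ Fin m) F := Units.map LMat

theorem coe_LGL (A : GL (Fin m) F) :
    (LGL A : Matrix (Fin m ⊕ Fin m) (Fin m ⊕ Fin m) F)
      = Matrix.fromBlocks (A : Matrix (Fin m) (Fin m) F) 0 0
          ((A : Matrix (Fin m) (Fin m) F)⁻¹).transpose := rfl

theorem LGL_mem (A : GL (Fin m) F) : LGL A ∈ isometryGroup F ⇑(QPlus m F) := by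
  rw [mem_isometryGroup_iff]
  intro x
  rw [coe_LGL, QPlus_apply, QPlus_apply, Matrix.fromBlocks_mulVec]
  simp only [Sum.elim_inl, Sum.elim_inr, Matrix.zero_mulVec, add_zero, zero_add]
  change (A.1.mulVec (x ∘ Sum.inl)) ⬝ᵥ ((A.1⁻¹).transpose.mulVec (x ∘ Sum.inr))
    = (x ∘ Sum.inl) ⬝ᵥ (x ∘ Sum.inr)
  have hA : IsUnit A.1.det := (Matrix.isUnit_iff_isUnit_det _).mp A.isUnit
  rw [Matrix.mulVec_transpose, dotProduct_comm, ← Matrix.dotProduct_mulVec, Matrix.mulVec_mulVec,
    Matrix.nonsing_inv_mul _ hA, Matrix.one_mulVec, dotProduct_comm]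

/-- `A ↦ diag(A, A⁻ᵀ)` as a homomorphism into the isometry group of the hyperbolic form. -/
noncomputable def Lhom : GL (Fin m) F →* isometryGroup F ⇑(QPlus m F) :=
  LGL.codRestrict _ LGL_mem

theorem coe_Lhom (A : GL (Fin m) F) :
    (((Lhom A : isometryGroup F ⇑(QPlus m F)) : GL (Fin m ⊕ Fin m) F) :
        Matrix (Fin m ⊕ Fin m) (Fin m ⊕ Fin m) F)
      = Matrix.fromBlocks (A : Matrix (Fin m) (Fin m) F) 0 0
          ((A : Matrix (Fin m) (Fin m) F)⁻¹).transpose := rfl

theorem coe_Lhom_dGL (i : Fin m) (u : Fˣ) :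
    (((Lhom (dGL i u) : isometryGroup F ⇑(QPlus m F)) : GL (Fin m ⊕ Fin m) F) :
        Matrix (Fin m ⊕ Fin m) (Fin m ⊕ Fin m) F)
      = Matrix.diagonal (fun k => if k = Sum.inl i then (u : F)
          else if k = Sum.inr i then (u : F)⁻¹ else 1) := by
  rw [coe_Lhom, coe_dGL]
  have hinv : (Matrix.diagonal (fun k => if k = i then (u : F) else 1))⁻¹
      = Matrix.diagonal (fun k => if k = i then (u : F)⁻¹ else 1) := by
    apply Matrix.inv_eq_right_inv
    rw [Matrix.diagonal_mul_diagonal, ← Matrix.diagonal_one]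
    congr 1
    funext k
    by_cases hk : k = i
    · simp [hk]
    · simp [hk]
  rw [hinv, Matrix.diagonal_transpose, Matrix.fromBlocks_diagonal]
  congr 1
  funext k
  rcases k with k | k
  · simp
  · simp

/-- `diag(D_i(u), D_i(u)⁻¹)` is a product of two reflections. -/
theorem Lhom_dGL (i : Fin m) (u : Fˣ) :
    Lhom (dGL i u) = refl (QPlus m F) (Pi.single (Sum.inl i) 1 - Pi.single (Sum.inr i) 1)
        (hypPlus m F i).Q_minus_ne
      * refl (QPlus m F) (Pi.single (Sum.inl i) 1 - (u : F) • Pi.single (Sum.inr i) 1)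
        ((hypPlus m F i).Q_scale_ne u u.ne_zero) := by
  apply isometry_ext
  rw [coe_Lhom_dGL, coe_mul', coe_refl, coe_refl,
    (hypPlus m F i).reflection_mul_scale (u : F) u.ne_zero]

end blockL

end Cfsg.Agent.Lib.Helper51
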