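import Mathlib
import Cfsg.Agent.Lib.Helper52.SP8EBDefs

/-! SP8-EB (sub-project of S5823, architect helper52), piece QGEN (delivered by helper51):
over a field with three elements the quaternion set is normally generated by the commutators
of one element of order four. -/

set_option autoImplicit false

namespace Cfsg.Agent.Lib.Helper52.SP8EB

open Matrix Cfsg.Geo Cfsg.Agent.Lib.Helper71.Asch

variable {n : ℕ} {F : Type*} [Field F] [Fintype F]

theorem QGEN_zmod : ∀ p q r : ZMod 3, p * p + q * r = -1 →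
    r * r = 1 ∧ ∃ g00 g01 g10 g11 : ZMod 3, g00 * g11 - g01 * g10 = 1 ∧
      p * g00 + q * g10 = -g01 ∧ p * g01 + q * g11 = g00 ∧ r * g00 - p * g10 = -g11 ∧
      r * g01 - p * g11 = g10 := by decide

theorem QGEN_scal (hq3 : Fintype.card F = 3) (p q r : F) (h : p * p + q * r = -1) :
    r * r = 1 ∧ ∃ g00 g01 g10 g11 : F, g00 * g11 - g01 * g10 = 1 ∧
      p * g00 + q * g10 = -g01 ∧ p * g01 + q * g11 = g00 ∧ r * g00 - p * g10 = -g11 ∧
      r * g01 - p * g11 = g10 := by
  have hp3 : Nat.Prime 3 := by norm_num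
  obtain ⟨φ⟩ : Nonempty (ZMod 3 ≃+* F) := ⟨ZMod.ringEquivOfPrime F hp3 hq3⟩
  have h' : φ.symm p * φ.symm p + φ.symm q * φ.symm r = -1 := by
    rw [← map_mul, ← map_mul, ← map_add, h, map_neg, map_one]
  obtain ⟨h1, g00, g01, g10, g11, e1, e2, e3, e4, e5⟩ := QGEN_zmod _ _ _ h'
  refine ⟨?_, φ g00, φ g01, φ g10, φ g11, ?_, ?_, ?_, ?_, ?_⟩
  · have e := congrArg φ h1
    simpa using e
  · have e := congrArg φ e1
    simpa using e
  · have e := congrArg φ e2
    simpa using e
  · have e := congrArg φ e3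
    simpa using e
  · have e := congrArg φ e4
    simpa using e
  · have e := congrArg φ e5
    simpa using e

omit [Fintype F] in
theorem QGEN_ext (a b c d a' b' c' d' : F) (h1 : a = a') (h2 : b = b') (h3 : c = c')
    (h4 : d = d') : (!![a, b; c, d] : Matrix (Fin 2) (Fin 2) F) = !![a', b'; c', d'] := by
  subst h1 h2 h3 h4
  rfl

omit [Fintype F] in
theorem QGEN_form (x : Matrix (Fin 2) (Fin 2) F) (hd : x.det = 1) (ht : x.trace = 0) :
    ∃ p q r : F, x = !![p, q; r, -p] ∧ p * p + q * r = -1 := by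
  rw [Matrix.trace_fin_two] at ht
  have h11 : x 1 1 = -x 0 0 := by linear_combination ht
  refine ⟨x 0 0, x 0 1, x 1 0, ?_, ?_⟩
  · rw [← h11]
    exact Matrix.eta_fin_two x
  · rw [Matrix.det_fin_two, h11] at hd
    linear_combination -hd

theorem QGEN_conj (hq3 : Fintype.card F = 3) (x : Matrix (Fin 2) (Fin 2) F) (hd : x.det = 1)
    (ht : x.trace = 0) :
    ∃ g h : Matrix (Fin 2) (Fin 2) F, g.det = 1 ∧ h.det = 1 ∧ g * h = 1 ∧ h * g = 1 ∧
      x = g * !![0, 1; -1, 0] * h := by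
  obtain ⟨p, q, r, hx, hpq⟩ := QGEN_form x hd ht
  obtain ⟨-, g00, g01, g10, g11, e1, e2, e3, e4, e5⟩ := QGEN_scal hq3 p q r hpq
  have hgh : (!![g00, g01; g10, g11] : Matrix (Fin 2) (Fin 2) F) *
      !![g11, -g01; -g10, g00] = 1 := by
    rw [Matrix.mul_fin_two, Matrix.one_fin_two]
    exact QGEN_ext _ _ _ _ _ _ _ _ (by linear_combination e1) (by ring) (by ring)
      (by linear_combination e1)
  have hhg : (!![g11, -g01; -g10, g00] : Matrix (Fin 2) (Fin 2) F) *
      !![g00, g01; g10, g11] = 1 := by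
    rw [Matrix.mul_fin_two, Matrix.one_fin_two]
    exact QGEN_ext _ _ _ _ _ _ _ _ (by linear_combination e1) (by ring) (by ring)
      (by linear_combination e1)
  have hxg : x * !![g00, g01; g10, g11] = !![g00, g01; g10, g11] * !![0, 1; -1, 0] := by
    rw [hx, Matrix.mul_fin_two, Matrix.mul_fin_two]
    exact QGEN_ext _ _ _ _ _ _ _ _ (by linear_combination e2) (by linear_combination e3)
      (by linear_combination e4) (by linear_combination e5)
  refine ⟨!![g00, g01; g10, g11], !![g11, -g01; -g10, g00], ?_, ?_, hgh, hhg, ?_⟩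
  · rw [Matrix.det_fin_two_of]
    exact e1
  · rw [Matrix.det_fin_two_of]
    linear_combination e1
  · rw [← hxg, Matrix.mul_assoc, hgh, Matrix.mul_one]

/-- QGEN [HARD finite check, card F = 3]. -/
theorem QGEN (hq3 : Fintype.card F = 3) : HQgen F := by
  intro a ha ha1 ha2 S hmul hconj hcomm y hy
  have h3 : (3 : F) = 0 := by
    have h := Nat.cast_card_eq_zero F
    rw [hq3] at h
    exact_mod_cast h
  obtain ⟨had, ha'⟩ := ha
  have hat : a.trace = 0 := by
    rcases ha' with h | h | h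
    · exact absurd h ha1
    · exact absurd h ha2
    · exact h
  obtain ⟨p, q, r, hx, hpq⟩ := QGEN_form a had hat
  obtain ⟨hr, -⟩ := QGEN_scal hq3 p q r hpq
  have haa' : a * !![-p, -q; -r, p] = 1 := by
    rw [hx, Matrix.mul_fin_two, Matrix.one_fin_two]
    exact QGEN_ext _ _ _ _ _ _ _ _ (by linear_combination -hpq) (by ring) (by ring)
      (by linear_combination -hpq)
  have hg : (!![1, 1; 0, 1] : Matrix (Fin 2) (Fin 2) F).det = 1 := by
    rw [Matrix.det_fin_two_of]
    ring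
  have hgh : (!![1, 1; 0, 1] : Matrix (Fin 2) (Fin 2) F) * !![1, -1; 0, 1] = 1 := by
    rw [Matrix.mul_fin_two, Matrix.one_fin_two]
    exact QGEN_ext _ _ _ _ _ _ _ _ (by ring) (by ring) (by ring) (by ring)
  have hbS := hcomm _ _ _ haa' hg hgh
  have hbd : (!![-p, -q; -r, p] * (!![1, 1; 0, 1] * a * !![1, -1; 0, 1])).det = 1 := by
    rw [Matrix.det_mul, Matrix.det_mul, Matrix.det_mul, hg, had, Matrix.det_fin_two_of,
      Matrix.det_fin_two_of]
    linear_combination -hpq
  have hbt : (!![-p, -q; -r, p] * (!![1, 1; 0, 1] * a * !![1, -1; 0, 1])).trace = 0 := by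
    rw [hx]
    simp only [Matrix.mul_fin_two, Matrix.trace_fin_two_of]
    linear_combination (-2) * hpq + hr + h3
  generalize !![-p, -q; -r, p] * (!![1, 1; 0, 1] * a * !![1, -1; 0, 1]) = b at hbS hbd hbt
  obtain ⟨gb, hb, -, hhbd, -, hhb1, hbe⟩ := QGEN_conj hq3 b hbd hbt
  have hI : (!![0, 1; -1, 0] : Matrix (Fin 2) (Fin 2) F) ∈ S := by
    have h := hconj _ hbS hb gb hhbd hhb1
    have e : hb * b * gb = !![0, 1; -1, 0] := by
      rw [hbe]
      calc hb * (gb * !![0, 1; -1, 0] * hb) * gb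
          = (hb * gb) * !![0, 1; -1, 0] * (hb * gb) := by simp only [Matrix.mul_assoc]
        _ = !![0, 1; -1, 0] := by rw [hhb1, Matrix.one_mul, Matrix.mul_one]
    rwa [e] at h
  have hIS : ∀ z : Matrix (Fin 2) (Fin 2) F, z.det = 1 → z.trace = 0 → z ∈ S := by
    intro z hzd hzt
    obtain ⟨gz, hz, hgzd, -, hgz1, -, hze⟩ := QGEN_conj hq3 z hzd hzt
    rw [hze]
    exact hconj _ hI gz hz hgzd hgz1
  have hII : (!![0, 1; -1, 0] : Matrix (Fin 2) (Fin 2) F) * !![0, 1; -1, 0] = -1 := by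
    rw [Matrix.mul_fin_two]
    ext i j
    fin_cases i <;> fin_cases j <;> simp
  have hm1 : (-1 : Matrix (Fin 2) (Fin 2) F) ∈ S := by
    rw [← hII]
    exact hmul _ hI _ hI
  have h1 : (1 : Matrix (Fin 2) (Fin 2) F) ∈ S := by
    have h := hmul _ hm1 _ hm1
    rwa [neg_mul_neg, Matrix.one_mul] at h
  obtain ⟨hyd, hy'⟩ := hy
  rcases hy' with h | h | h
  · rw [h]
    exact h1
  · rw [h]
    exact hm1
  · exact hIS y hyd h

end Cfsg.Agent.Lib.Helper52.SP8EB
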